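import Cfsg.Prelude.Def_Local

/-! Basic API for `Cfsg.pCore`, `Cfsg.pPrimeCore` and `Cfsg.pPrimePCore`. -/

set_option autoImplicit false

namespace CfsgLib.PCore

open Cfsg Subgroup

variable {p : ℕ} {G : Type*} [Group G] {H : Type*} [Group H]

/-- A property of subgroups which holds of `⊥` and is closed under joins of normal subgroups holds of
the join of any set of normal subgroups having it (finite groups). -/
theorem sSup_induction_normal [Finite G] (Q : Subgroup G → Prop) (hbot : Q ⊥)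
    (hsup : ∀ A B : Subgroup G, A.Normal → B.Normal → Q A → Q B → Q (A ⊔ B)) :
    Q (sSup {N : Subgroup G | N.Normal ∧ Q N}) := by
  classical
  have key : ∀ s : Set (Subgroup G), s.Finite → (∀ N ∈ s, N.Normal ∧ Q N) →
      (sSup s).Normal ∧ Q (sSup s) := by
    intro s hs
    induction s, hs using Set.Finite.induction_on with
    | empty => intro _; rw [sSup_empty]; exact ⟨inferInstance, hbot⟩
    | @insert a s _ _ ih =>
      intro h
      obtain ⟨hn, hq⟩ := ih fun N hN => h N (Set.mem_insert_of_mem _ hN)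
      obtain ⟨han, haq⟩ := h a (Set.mem_insert _ _)
      rw [sSup_insert]
      have := han; have := hn
      exact ⟨inferInstance, hsup _ _ han hn haq hq⟩
  exact (key _ (Set.toFinite _) fun N hN => hN).2

theorem le_pCore {N : Subgroup G} (hn : N.Normal) (hp : IsPGroup p N) : N ≤ pCore p G :=
  le_sSup ⟨hn, hp⟩

theorem le_pPrimeCore {N : Subgroup G} (hn : N.Normal) (hp : (Nat.card N).Coprime p) :
    N ≤ pPrimeCore p G :=
  le_sSup ⟨hn, hp⟩

theorem pCore_isPGroup [Finite G] : IsPGroup p (pCore p G) := by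
  refine sSup_induction_normal (fun N : Subgroup G => IsPGroup p N) IsPGroup.of_bot ?_
  intro A B hA _ h1 h2
  exact IsPGroup.to_sup_of_normal_left h1 h2

/-- The order of a join with a normal subgroup divides the product of the orders. -/
theorem card_sup_dvd_mul (A B : Subgroup G) [A.Normal] :
    Nat.card ↥(A ⊔ B) ∣ Nat.card A * Nat.card B := by
  rw [← relIndex_bot_left, ← relIndex_mul_relIndex ⊥ A (A ⊔ B) bot_le le_sup_left, relIndex_bot_left,
    relIndex_sup_left]
  exact Nat.mul_dvd_mul dvd_rfl (relIndex_dvd_card _ _)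

theorem pPrimeCore_coprime [Finite G] : (Nat.card (pPrimeCore p G)).Coprime p := by
  refine sSup_induction_normal (fun N : Subgroup G => (Nat.card N).Coprime p) (by simp) ?_
  intro A B hA _ h1 h2
  exact Nat.Coprime.coprime_dvd_left (card_sup_dvd_mul A B) (Nat.Coprime.mul_left h1 h2)

theorem not_dvd_card_pPrimeCore [Finite G] [hp : Fact p.Prime] : ¬ p ∣ Nat.card (pPrimeCore p G) :=
  fun h => (hp.out.coprime_iff_not_dvd.1 pPrimeCore_coprime.symm) h

theorem coprime_of_not_dvd_card [hp : Fact p.Prime] {n : ℕ} (h : ¬ p ∣ n) : n.Coprime p :=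
  (hp.out.coprime_iff_not_dvd.2 h).symm

theorem le_pPrimeCore_of_not_dvd [Fact p.Prime] {N : Subgroup G} (hn : N.Normal)
    (hp : ¬ p ∣ Nat.card N) : N ≤ pPrimeCore p G :=
  le_pPrimeCore hn (coprime_of_not_dvd_card hp)

/-- A `p`-group and a subgroup of order prime to `p` meet trivially. -/
theorem inf_eq_bot_of_isPGroup_coprime [Finite G] [Fact p.Prime] {A B : Subgroup G}
    (hA : IsPGroup p A) (hB : (Nat.card B).Coprime p) : A ⊓ B = ⊥ := by
  obtain ⟨n, hn⟩ := IsPGroup.iff_card.1 hA
  exact disjoint_iff.1 (Subgroup.disjoint_of_coprime_natCard (by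
    rw [hn]; exact Nat.Coprime.pow_left n hB.symm))

theorem eq_bot_of_isPGroup_coprime [Finite G] [Fact p.Prime] {A : Subgroup G}
    (hA : IsPGroup p A) (hB : (Nat.card A).Coprime p) : A = ⊥ := by
  simpa using inf_eq_bot_of_isPGroup_coprime hA hB

theorem pCore_inf_pPrimeCore [Finite G] [Fact p.Prime] : pCore p G ⊓ pPrimeCore p G = ⊥ :=
  inf_eq_bot_of_isPGroup_coprime pCore_isPGroup pPrimeCore_coprime

theorem commutator_pCore_pPrimeCore [Finite G] [Fact p.Prime] :
    ⁅pCore p G, pPrimeCore p G⁆ = ⊥ :=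
  le_bot_iff.1 ((Subgroup.commutator_le_inf _ _).trans_eq pCore_inf_pPrimeCore)

theorem pPrimeCore_le_centralizer_pCore [Finite G] [Fact p.Prime] :
    pPrimeCore p G ≤ Subgroup.centralizer (pCore p G : Set G) := by
  rw [← Subgroup.commutator_eq_bot_iff_le_centralizer, Subgroup.commutator_comm]
  exact commutator_pCore_pPrimeCore

theorem pCore_le_centralizer_pPrimeCore [Finite G] [Fact p.Prime] :
    pCore p G ≤ Subgroup.centralizer (pPrimeCore p G : Set G) := by
  rw [← Subgroup.commutator_eq_bot_iff_le_centralizer]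
  exact commutator_pCore_pPrimeCore

theorem pCore_le_sylow [Finite G] [Fact p.Prime] (P : Sylow p G) : pCore p G ≤ (P : Subgroup G) := by
  obtain ⟨Q, hQ⟩ := (pCore_isPGroup (p := p) (G := G)).exists_le_sylow
  obtain ⟨g, hg⟩ := MulAction.exists_smul_eq G Q P
  intro x hx
  rw [← hg, Sylow.coe_subgroup_smul, Subgroup.mem_pointwise_smul_iff_inv_smul_mem]
  exact hQ (by simpa using (pCore_normal p G).conj_mem x hx g⁻¹)

theorem pCore_eq_self_of_isPGroup (h : IsPGroup p G) : pCore p G = ⊤ :=
  top_le_iff.1 (le_pCore inferInstance (h.to_subgroup ⊤))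

theorem pPrimeCore_eq_top_of_coprime (h : (Nat.card G).Coprime p) : pPrimeCore p G = ⊤ :=
  top_le_iff.1 (le_pPrimeCore inferInstance (by rwa [Subgroup.card_top]))

theorem pPrimeCore_eq_bot_of_isPGroup [Finite G] [Fact p.Prime] (h : IsPGroup p G) :
    pPrimeCore p G = ⊥ :=
  eq_bot_of_isPGroup_coprime (h.to_subgroup _) pPrimeCore_coprime

theorem pCore_eq_bot_iff [Finite G] :
    pCore p G = ⊥ ↔ ∀ N : Subgroup G, N.Normal → IsPGroup p N → N = ⊥ :=
  ⟨fun h N hn hp => le_bot_iff.1 (h ▸ le_pCore hn hp),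
    fun h => h _ (pCore_normal p G) pCore_isPGroup⟩

theorem pPrimeCore_eq_bot_iff [Finite G] :
    pPrimeCore p G = ⊥ ↔ ∀ N : Subgroup G, N.Normal → (Nat.card N).Coprime p → N = ⊥ :=
  ⟨fun h N hn hp => le_bot_iff.1 (h ▸ le_pPrimeCore hn hp),
    fun h => h _ (pPrimeCore_normal p G) pPrimeCore_coprime⟩

/-! ### Homomorphisms -/

theorem map_pCore_le [Finite G] (f : G →* H) (hf : Function.Surjective f) :
    (pCore p G).map f ≤ pCore p H :=
  le_pCore ((pCore_normal p G).map f hf) (pCore_isPGroup.map f)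

theorem map_pPrimeCore_le [Finite G] (f : G →* H) (hf : Function.Surjective f) :
    (pPrimeCore p G).map f ≤ pPrimeCore p H :=
  le_pPrimeCore ((pPrimeCore_normal p G).map f hf)
    (Nat.Coprime.coprime_dvd_left (Subgroup.card_map_dvd _ f) pPrimeCore_coprime)

theorem map_pCore_equiv [Finite G] (e : G ≃* H) : (pCore p G).map e.toMonoidHom = pCore p H := by
  have := Finite.of_equiv G e.toEquiv
  refine le_antisymm (map_pCore_le _ e.surjective) fun x hx => ⟨e.symm x, ?_, by simp⟩
  exact map_pCore_le (e.symm : H →* G) e.symm.surjective ⟨x, hx, rfl⟩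

theorem map_pPrimeCore_equiv [Finite G] (e : G ≃* H) :
    (pPrimeCore p G).map e.toMonoidHom = pPrimeCore p H := by
  have := Finite.of_equiv G e.toEquiv
  refine le_antisymm (map_pPrimeCore_le _ e.surjective) fun x hx => ⟨e.symm x, ?_, by simp⟩
  exact map_pPrimeCore_le (e.symm : H →* G) e.symm.surjective ⟨x, hx, rfl⟩

theorem pCore_eq_bot_of_equiv [Finite G] (e : G ≃* H) (h : pCore p G = ⊥) : pCore p H = ⊥ := by
  rw [← map_pCore_equiv e, h, Subgroup.map_bot]

theorem pPrimeCore_eq_bot_of_equiv [Finite G] (e : G ≃* H) (h : pPrimeCore p G = ⊥) :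
    pPrimeCore p H = ⊥ := by
  rw [← map_pPrimeCore_equiv e, h, Subgroup.map_bot]

instance pCore_characteristic_inst [Finite G] : (pCore p G).Characteristic :=
  Subgroup.characteristic_iff_map_eq.2 fun e => map_pCore_equiv e

instance pPrimeCore_characteristic_inst [Finite G] : (pPrimeCore p G).Characteristic :=
  Subgroup.characteristic_iff_map_eq.2 fun e => map_pPrimeCore_equiv e

theorem isPGroup_comap_of_injective {K : Subgroup G} (hK : IsPGroup p K) (f : H →* G)
    (hf : Function.Injective f) : IsPGroup p (K.comap f) :=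
  hK.comap_of_injective f hf

theorem comap_pCore_le [Finite G] (f : H →* G) (hf : Function.Injective f) :
    (pCore p G).comap f ≤ pCore p H :=
  le_pCore ((pCore_normal p G).comap f) (pCore_isPGroup.comap_of_injective f hf)

theorem comap_pPrimeCore_le [Finite G] (f : H →* G) (hf : Function.Injective f) :
    (pPrimeCore p G).comap f ≤ pPrimeCore p H :=
  le_pPrimeCore ((pPrimeCore_normal p G).comap f)
    (Nat.Coprime.coprime_dvd_left (Subgroup.card_comap_dvd_of_injective _ f hf) pPrimeCore_coprime)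

/-! ### Subgroups -/

theorem pCore_subgroupOf_le [Finite G] (K : Subgroup G) :
    (pCore p G).subgroupOf K ≤ pCore p K :=
  comap_pCore_le K.subtype K.subtype_injective

theorem pPrimeCore_subgroupOf_le [Finite G] (K : Subgroup G) :
    (pPrimeCore p G).subgroupOf K ≤ pPrimeCore p K :=
  comap_pPrimeCore_le K.subtype K.subtype_injective

theorem inf_pCore_le_map [Finite G] (K : Subgroup G) :
    K ⊓ pCore p G ≤ (pCore p K).map K.subtype :=
  fun x hx => ⟨⟨x, hx.1⟩, pCore_subgroupOf_le K hx.2, rfl⟩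

theorem inf_pPrimeCore_le_map [Finite G] (K : Subgroup G) :
    K ⊓ pPrimeCore p G ≤ (pPrimeCore p K).map K.subtype :=
  fun x hx => ⟨⟨x, hx.1⟩, pPrimeCore_subgroupOf_le K hx.2, rfl⟩

theorem map_pCore_subtype_of_normal [Finite G] (K : Subgroup G) [K.Normal] :
    (pCore p K).map K.subtype = K ⊓ pCore p G :=
  le_antisymm (le_inf (Subgroup.map_subtype_le _)
    (le_pCore inferInstance (pCore_isPGroup.map _))) (inf_pCore_le_map K)

theorem map_pPrimeCore_subtype_of_normal [Finite G] (K : Subgroup G) [K.Normal] :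
    (pPrimeCore p K).map K.subtype = K ⊓ pPrimeCore p G :=
  le_antisymm (le_inf (Subgroup.map_subtype_le _)
    (le_pPrimeCore inferInstance
      (Nat.Coprime.coprime_dvd_left (Subgroup.card_map_dvd _ _) pPrimeCore_coprime)))
    (inf_pPrimeCore_le_map K)

theorem map_pCore_subtype_of_isSubnormal [Finite G] {K : Subgroup G} (hK : K.IsSubnormal) :
    (pCore p K).map K.subtype ≤ pCore p G := by
  induction hK with
  | top =>
    exact map_pCore_le (⊤ : Subgroup G).subtype fun x => ⟨⟨x, trivial⟩, rfl⟩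
  | step A B hAB _ hN ih =>
    have h1 := map_pCore_subtype_of_normal (p := p) (A.subgroupOf B)
    intro x hx
    obtain ⟨⟨a, ha⟩, hy, rfl⟩ := hx
    refine ih ⟨⟨a, hAB ha⟩, ?_, rfl⟩
    have h2 : (⟨⟨a, hAB ha⟩, ha⟩ : A.subgroupOf B) ∈ pCore p (A.subgroupOf B) :=
      map_pCore_le (Subgroup.subgroupOfEquivOfLe hAB).symm.toMonoidHom
        (Subgroup.subgroupOfEquivOfLe hAB).symm.surjective ⟨⟨a, ha⟩, hy, rfl⟩
    exact (h1.le ⟨_, h2, rfl⟩).2

/-- A subnormal `p`-subgroup lies in the `p`-core. -/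
theorem le_pCore_of_isSubnormal [Finite G] {K : Subgroup G} (hK : K.IsSubnormal)
    (hp : IsPGroup p K) : K ≤ pCore p G := by
  refine le_trans ?_ (map_pCore_subtype_of_isSubnormal hK)
  rw [pCore_eq_self_of_isPGroup hp]
  exact fun x hx => ⟨⟨x, hx⟩, trivial, rfl⟩

theorem map_pPrimeCore_subtype_of_isSubnormal [Finite G] {K : Subgroup G} (hK : K.IsSubnormal) :
    (pPrimeCore p K).map K.subtype ≤ pPrimeCore p G := by
  induction hK with
  | top =>
    exact map_pPrimeCore_le (⊤ : Subgroup G).subtype fun x => ⟨⟨x, trivial⟩, rfl⟩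
  | step A B hAB _ hN ih =>
    have h1 := map_pPrimeCore_subtype_of_normal (p := p) (A.subgroupOf B)
    intro x hx
    obtain ⟨⟨a, ha⟩, hy, rfl⟩ := hx
    refine ih ⟨⟨a, hAB ha⟩, ?_, rfl⟩
    have h2 : (⟨⟨a, hAB ha⟩, ha⟩ : A.subgroupOf B) ∈ pPrimeCore p (A.subgroupOf B) :=
      map_pPrimeCore_le (Subgroup.subgroupOfEquivOfLe hAB).symm.toMonoidHom
        (Subgroup.subgroupOfEquivOfLe hAB).symm.surjective ⟨⟨a, ha⟩, hy, rfl⟩
    exact (h1.le ⟨_, h2, rfl⟩).2

/-- A subnormal subgroup of order prime to `p` lies in the `p'`-core. -/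
theorem le_pPrimeCore_of_isSubnormal [Finite G] {K : Subgroup G} (hK : K.IsSubnormal)
    (hp : (Nat.card K).Coprime p) : K ≤ pPrimeCore p G := by
  refine le_trans ?_ (map_pPrimeCore_subtype_of_isSubnormal hK)
  rw [pPrimeCore_eq_top_of_coprime hp]
  exact fun x hx => ⟨⟨x, hx⟩, trivial, rfl⟩

theorem pCore_eq_bot_of_normal [Finite G] (K : Subgroup G) [K.Normal] (h : pCore p G = ⊥) :
    pCore p K = ⊥ := by
  rw [← Subgroup.map_eq_bot_iff_of_injective _ K.subtype_injective, map_pCore_subtype_of_normal, h,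
    inf_bot_eq]

theorem pPrimeCore_eq_bot_of_normal [Finite G] (K : Subgroup G) [K.Normal]
    (h : pPrimeCore p G = ⊥) : pPrimeCore p K = ⊥ := by
  rw [← Subgroup.map_eq_bot_iff_of_injective _ K.subtype_injective,
    map_pPrimeCore_subtype_of_normal, h, inf_bot_eq]

/-! ### Quotients -/

theorem card_comap_mk' (N : Subgroup G) [N.Normal] (M : Subgroup (G ⧸ N)) :
    Nat.card (M.comap (QuotientGroup.mk' N)) = Nat.card N * Nat.card M := by
  have h : N ≤ M.comap (QuotientGroup.mk' N) := fun x hx => by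
    rw [Subgroup.mem_comap, QuotientGroup.mk'_apply, (QuotientGroup.eq_one_iff x).2 hx]
    exact M.one_mem
  rw [← relIndex_bot_left, ← relIndex_mul_relIndex ⊥ N _ bot_le h, relIndex_bot_left]
  congr 1
  have h2 : (⊥ : Subgroup (G ⧸ N)).comap (QuotientGroup.mk' N) = N := by
    rw [MonoidHom.comap_bot, QuotientGroup.ker_mk']
  calc N.relIndex (M.comap (QuotientGroup.mk' N))
      = ((⊥ : Subgroup (G ⧸ N)).comap (QuotientGroup.mk' N)).relIndex
          (M.comap (QuotientGroup.mk' N)) := by rw [h2]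
    _ = Nat.card M := by
      rw [relIndex_comap, map_comap_eq_self_of_surjective (QuotientGroup.mk'_surjective N),
        relIndex_bot_left]

theorem isPGroup_comap_mk' {N : Subgroup G} [N.Normal] (hN : IsPGroup p N)
    {M : Subgroup (G ⧸ N)} (hM : IsPGroup p M) : IsPGroup p (M.comap (QuotientGroup.mk' N)) :=
  hM.comap_of_ker_isPGroup _ (by rwa [QuotientGroup.ker_mk'])

/-- For a normal `p`-subgroup `N`, `O_p(G / N)` pulls back to `O_p(G)`. -/
theorem comap_pCore_quotient [Finite G] {N : Subgroup G} [N.Normal] (hN : IsPGroup p N) :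
    (pCore p (G ⧸ N)).comap (QuotientGroup.mk' N) = pCore p G :=
  le_antisymm (le_pCore ((pCore_normal p _).comap _) (isPGroup_comap_mk' hN pCore_isPGroup))
    (Subgroup.map_le_iff_le_comap.1 (map_pCore_le _ (QuotientGroup.mk'_surjective N)))

theorem map_pCore_quotient [Finite G] {N : Subgroup G} [N.Normal] (hN : IsPGroup p N) :
    (pCore p G).map (QuotientGroup.mk' N) = pCore p (G ⧸ N) := by
  rw [← comap_pCore_quotient hN, map_comap_eq_self_of_surjective (QuotientGroup.mk'_surjective N)]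

/-- For a normal `p'`-subgroup `N`, `O_{p'}(G / N)` pulls back to `O_{p'}(G)`. -/
theorem comap_pPrimeCore_quotient [Finite G] {N : Subgroup G} [N.Normal]
    (hN : (Nat.card N).Coprime p) :
    (pPrimeCore p (G ⧸ N)).comap (QuotientGroup.mk' N) = pPrimeCore p G :=
  le_antisymm (le_pPrimeCore ((pPrimeCore_normal p _).comap _)
      (by rw [card_comap_mk']; exact Nat.Coprime.mul_left hN pPrimeCore_coprime))
    (Subgroup.map_le_iff_le_comap.1 (map_pPrimeCore_le _ (QuotientGroup.mk'_surjective N)))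

theorem map_pPrimeCore_quotient [Finite G] {N : Subgroup G} [N.Normal]
    (hN : (Nat.card N).Coprime p) :
    (pPrimeCore p G).map (QuotientGroup.mk' N) = pPrimeCore p (G ⧸ N) := by
  rw [← comap_pPrimeCore_quotient hN,
    map_comap_eq_self_of_surjective (QuotientGroup.mk'_surjective N)]

theorem pCore_quotient_pCore [Finite G] : pCore p (G ⧸ pCore p G) = ⊥ := by
  rw [← map_pCore_quotient pCore_isPGroup, QuotientGroup.map_mk'_self]

theorem pPrimeCore_quotient_pPrimeCore [Finite G] : pPrimeCore p (G ⧸ pPrimeCore p G) = ⊥ := by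
  rw [← map_pPrimeCore_quotient pPrimeCore_coprime, QuotientGroup.map_mk'_self]

/-! ### `O_{p',p}` -/

instance pPrimePCore_normal_inst : (pPrimePCore p G).Normal :=
  (pCore_normal p _).comap _

theorem pPrimeCore_le_pPrimePCore : pPrimeCore p G ≤ pPrimePCore p G := by
  intro x hx
  rw [pPrimePCore, Subgroup.mem_comap, QuotientGroup.mk'_apply, (QuotientGroup.eq_one_iff x).2 hx]
  exact Subgroup.one_mem _

theorem pCore_le_pPrimePCore [Finite G] : pCore p G ≤ pPrimePCore p G :=
  Subgroup.map_le_iff_le_comap.1 (map_pCore_le _ (QuotientGroup.mk'_surjective _))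

theorem pPrimePCore_eq_pCore [Finite G] [Fact p.Prime] (h : pPrimeCore p G = ⊥) :
    pPrimePCore p G = pCore p G :=
  comap_pCore_quotient (by rw [h]; exact IsPGroup.of_bot)

theorem map_pPrimePCore [Finite G] :
    (pPrimePCore p G).map (QuotientGroup.mk' (pPrimeCore p G)) = pCore p (G ⧸ pPrimeCore p G) :=
  map_comap_eq_self_of_surjective (QuotientGroup.mk'_surjective _) _

/-- `O_{p'}(G) ⊔ P = O_{p',p}(G) ⊔ P` for a Sylow subgroup `P`, in the form `O_{p',p}(G) ≤ O_{p'}(G) ⊔ P`. -/
theorem pPrimePCore_le_sup_sylow [Finite G] [Fact p.Prime] (P : Sylow p G) :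
    pPrimePCore p G ≤ pPrimeCore p G ⊔ (P : Subgroup G) := by
  intro x hx
  have h1 := pCore_le_sylow (P.mapSurjective (QuotientGroup.mk'_surjective (pPrimeCore p G))) hx
  rw [Sylow.coe_mapSurjective] at h1
  obtain ⟨y, hy, hyx⟩ := h1
  have h2 : y⁻¹ * x ∈ pPrimeCore p G := QuotientGroup.eq.1 hyx
  have h3 := Subgroup.mul_mem_sup hy h2
  rwa [mul_inv_cancel_left, sup_comm] at h3

end CfsgLib.PCore
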