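import Cfsg.Agent.Lib.PCore.Basic

/-! `p`-solvable groups, the upper `p`-series, and the Hall–Higman lemma 1.2.3. -/

set_option autoImplicit false

namespace CfsgLib.PCore

open Cfsg Subgroup

variable {p : ℕ} {G : Type*} [Group G] {H : Type*} [Group H]

/-! ### Relative indices -/

theorem relIndex_dvd_of_normal_le {A L M : Subgroup G} [A.Normal] (h : L ≤ M) :
    A.relIndex L ∣ A.relIndex M := by
  rw [← Subgroup.relIndex_subgroupOf (H := A) h]
  exact Subgroup.relIndex_dvd_index_of_normal _ _

theorem card_map_mk' (U M : Subgroup G) [U.Normal] :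
    Nat.card (M.map (QuotientGroup.mk' U)) = U.relIndex M := by
  have h2 : (⊥ : Subgroup (G ⧸ U)).comap (QuotientGroup.mk' U) = U := by
    rw [MonoidHom.comap_bot, QuotientGroup.ker_mk']
  conv_rhs => rw [← h2]
  rw [relIndex_comap, relIndex_bot_left]

/-- The condition on one factor in the definition of `p`-solubility. -/
def IsPFactor (p : ℕ) (A B : Subgroup G) : Prop :=
  (∃ m : ℕ, A.relIndex B = p ^ m) ∨ (A.relIndex B).Coprime p

theorem isPFactor_of_dvd [hp : Fact p.Prime] {A B : Subgroup G} {A' B' : Subgroup H}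
    (hd : A'.relIndex B' ∣ A.relIndex B) (h : IsPFactor p A B) : IsPFactor p A' B' := by
  rcases h with ⟨m, hm⟩ | h
  · rw [hm] at hd
    obtain ⟨i, -, hi⟩ := (Nat.dvd_prime_pow hp.out).1 hd
    exact Or.inl ⟨i, hi⟩
  · exact Or.inr (Nat.Coprime.coprime_dvd_left hd h)

/-! ### The upper `p`-series -/

theorem upperPSeries_zero : (upperPSeries p G 0).1 = ⊥ := rfl

theorem upperPSeries_succ (n : ℕ) :
    (upperPSeries p G (n + 1)).1 = if Even n
      then (pPrimeCore p (G ⧸ (upperPSeries p G n).1)).comap (QuotientGroup.mk' _)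
      else (pCore p (G ⧸ (upperPSeries p G n).1)).comap (QuotientGroup.mk' _) := by
  rw [upperPSeries]
  split_ifs <;> rfl

theorem upperPSeries_succ_of_even {n : ℕ} (h : Even n) :
    (upperPSeries p G (n + 1)).1 =
      (pPrimeCore p (G ⧸ (upperPSeries p G n).1)).comap (QuotientGroup.mk' _) := by
  rw [upperPSeries_succ, if_pos h]

theorem upperPSeries_succ_of_odd {n : ℕ} (h : ¬ Even n) :
    (upperPSeries p G (n + 1)).1 =
      (pCore p (G ⧸ (upperPSeries p G n).1)).comap (QuotientGroup.mk' _) := by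
  rw [upperPSeries_succ, if_neg h]

theorem upperPSeries_le_succ (n : ℕ) :
    (upperPSeries p G n).1 ≤ (upperPSeries p G (n + 1)).1 := by
  intro x hx
  rw [upperPSeries_succ]
  have h1 : QuotientGroup.mk' (upperPSeries p G n).1 x = 1 := (QuotientGroup.eq_one_iff x).2 hx
  split_ifs <;> rw [Subgroup.mem_comap, h1] <;> exact Subgroup.one_mem _

theorem upperPSeries_mono : Monotone fun n => (upperPSeries p G n).1 :=
  monotone_nat_of_le_succ upperPSeries_le_succ

theorem upperPSeries_one [Finite G] : (upperPSeries p G 1).1 = pPrimeCore p G := by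
  rw [upperPSeries_succ_of_even (by decide : Even 0)]
  exact comap_pPrimeCore_quotient (by simp [upperPSeries_zero])

theorem isPFactor_upperPSeries [Finite G] [Fact p.Prime] (n : ℕ) :
    IsPFactor p (upperPSeries p G n).1 (upperPSeries p G (n + 1)).1 := by
  have h := card_map_mk' (upperPSeries p G n).1 (upperPSeries p G (n + 1)).1
  rw [IsPFactor, ← h]
  by_cases hn : Even n
  · rw [upperPSeries_succ_of_even hn,
      map_comap_eq_self_of_surjective (QuotientGroup.mk'_surjective _)]
    exact Or.inr pPrimeCore_coprime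
  · rw [upperPSeries_succ_of_odd hn,
      map_comap_eq_self_of_surjective (QuotientGroup.mk'_surjective _)]
    exact Or.inl (IsPGroup.iff_card.1 pCore_isPGroup)

theorem le_upperPSeries_succ [Finite G] {M : Subgroup G} [hM : M.Normal] {n : ℕ}
    (h1 : Even n → ((upperPSeries p G n).1.relIndex M).Coprime p)
    (h2 : ¬ Even n → ∃ m, (upperPSeries p G n).1.relIndex M = p ^ m) :
    M ≤ (upperPSeries p G (n + 1)).1 := by
  have hc := card_map_mk' (upperPSeries p G n).1 M
  have hn := hM.map (QuotientGroup.mk' (upperPSeries p G n).1) (QuotientGroup.mk'_surjective _)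
  rw [upperPSeries_succ]
  split_ifs with h
  · exact Subgroup.map_le_iff_le_comap.1 (le_pPrimeCore hn (hc ▸ h1 h))
  · obtain ⟨m, hm⟩ := h2 h
    exact Subgroup.map_le_iff_le_comap.1 (le_pCore hn (IsPGroup.of_card (hc.trans hm)))

/-- Two steps of the upper `p`-series absorb a `p`- or `p'`-factor. -/
theorem le_upperPSeries_add_two [Finite G] [Fact p.Prime] {A M : Subgroup G} [M.Normal] {n : ℕ}
    (hA : A ≤ (upperPSeries p G n).1) (h : IsPFactor p A M) :
    M ≤ (upperPSeries p G (n + 2)).1 := by
  have hd : ∀ {k : ℕ}, n ≤ k → IsPFactor p (upperPSeries p G k).1 M := fun hk =>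
    isPFactor_of_dvd (Subgroup.relIndex_dvd_of_le_left _ (hA.trans (upperPSeries_mono hk))) h
  rcases h with ⟨m, hm⟩ | h
  · have hd2 : ∀ {k : ℕ}, n ≤ k → ∃ i, (upperPSeries p G k).1.relIndex M = p ^ i := by
      intro k hk
      obtain ⟨i, -, hi⟩ := (Nat.dvd_prime_pow (Fact.out : p.Prime)).1
        (hm ▸ Subgroup.relIndex_dvd_of_le_left M (hA.trans (upperPSeries_mono hk)))
      exact ⟨i, hi⟩
    by_cases hn : Even n
    · exact le_upperPSeries_succ (fun h => absurd h (by simp [Nat.even_add_one, hn]))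
        (fun _ => hd2 (Nat.le_succ n))
    · exact le_trans (le_upperPSeries_succ (fun h => absurd h hn) (fun _ => hd2 le_rfl))
        (upperPSeries_mono (Nat.le_succ _))
  · have hd2 : ∀ {k : ℕ}, n ≤ k → ((upperPSeries p G k).1.relIndex M).Coprime p := fun hk =>
      Nat.Coprime.coprime_dvd_left
        (Subgroup.relIndex_dvd_of_le_left M (hA.trans (upperPSeries_mono hk))) h
    by_cases hn : Even n
    · exact le_trans (le_upperPSeries_succ (fun _ => hd2 le_rfl) (fun h => absurd hn h))
        (upperPSeries_mono (Nat.le_succ _))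
    · exact le_upperPSeries_succ (fun _ => hd2 (Nat.le_succ n))
        (fun h => absurd h (by simp [Nat.even_add_one, hn]))

theorem comap_pCore_le_upperPSeries_add_two [Finite G] [Fact p.Prime] (n : ℕ) :
    (pCore p (G ⧸ (upperPSeries p G n).1)).comap (QuotientGroup.mk' _) ≤
      (upperPSeries p G (n + 2)).1 :=
  le_upperPSeries_add_two le_rfl (Or.inl (by
    rw [← card_map_mk', map_comap_eq_self_of_surjective (QuotientGroup.mk'_surjective _)]
    exact IsPGroup.iff_card.1 pCore_isPGroup))

theorem comap_pPrimeCore_le_upperPSeries_add_two [Finite G] [Fact p.Prime] (n : ℕ) :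
    (pPrimeCore p (G ⧸ (upperPSeries p G n).1)).comap (QuotientGroup.mk' _) ≤
      (upperPSeries p G (n + 2)).1 :=
  le_upperPSeries_add_two le_rfl (Or.inr (by
    rw [← card_map_mk', map_comap_eq_self_of_surjective (QuotientGroup.mk'_surjective _)]
    exact pPrimeCore_coprime))

theorem map_upperPSeries_equiv [Finite G] (e : G ≃* H) (n : ℕ) :
    (upperPSeries p G n).1.map e.toMonoidHom = (upperPSeries p H n).1 := by
  induction n with
  | zero => exact Subgroup.map_bot _
  | succ n ih =>
    have := Finite.of_equiv G e.toEquiv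
    let f := QuotientGroup.congr (upperPSeries p G n).1 (upperPSeries p H n).1 e ih
    by_cases hn : Even n
    · rw [upperPSeries_succ_of_even hn, upperPSeries_succ_of_even hn,
        ← map_pPrimeCore_equiv f, Subgroup.map_equiv_eq_comap_symm', Subgroup.comap_comap,
        Subgroup.map_equiv_eq_comap_symm', Subgroup.comap_comap]
      congr 1
    · rw [upperPSeries_succ_of_odd hn, upperPSeries_succ_of_odd hn,
        ← map_pCore_equiv f, Subgroup.map_equiv_eq_comap_symm', Subgroup.comap_comap,
        Subgroup.map_equiv_eq_comap_symm', Subgroup.comap_comap]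
      congr 1

instance upperPSeries_characteristic_inst [Finite G] (n : ℕ) :
    (upperPSeries p G n).1.Characteristic :=
  Subgroup.characteristic_iff_map_eq.2 fun e => map_upperPSeries_equiv e n

/-! ### `p`-solvable groups -/

theorem isPSolvable_iff_upperPSeries [Finite G] [Fact p.Prime] :
    IsPSolvable p G ↔ ∃ n, (upperPSeries p G n).1 = ⊤ := by
  constructor
  · rintro ⟨n, C, h0, hn, -, hN, hF⟩
    have key : ∀ i : Fin (n + 1), ∃ k, C i ≤ (upperPSeries p G k).1 := by
      intro i
      induction i using Fin.induction with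
      | zero => exact ⟨0, by rw [h0]; exact bot_le⟩
      | succ i ih =>
        obtain ⟨k, hk⟩ := ih
        have := hN i.succ
        exact ⟨k + 2, le_upperPSeries_add_two hk (hF i)⟩
    obtain ⟨k, hk⟩ := key (Fin.last n)
    exact ⟨k, top_le_iff.1 (hn ▸ hk)⟩
  · rintro ⟨n, hn⟩
    exact ⟨n, fun i => (upperPSeries p G i).1, rfl, hn, fun i j h => upperPSeries_mono h,
      fun i => (upperPSeries p G i).2, fun i => isPFactor_upperPSeries i⟩

theorem isPSolvable_of_injective [Fact p.Prime] (f : H →* G) (hf : Function.Injective f)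
    (h : IsPSolvable p G) : IsPSolvable p H := by
  obtain ⟨n, C, h0, hn, hm, hN, hF⟩ := h
  refine ⟨n, fun i => (C i).comap f, ?_, ?_, fun i j hij => Subgroup.comap_mono (hm hij),
    fun i => (hN i).comap f, fun i => ?_⟩
  · simp [h0, MonoidHom.comap_bot, (MonoidHom.ker_eq_bot_iff f).2 hf]
  · simp [hn]
  · refine isPFactor_of_dvd ?_ (hF i)
    rw [relIndex_comap]
    have := hN i.castSucc
    exact relIndex_dvd_of_normal_le (Subgroup.map_comap_le _ _)

theorem isPSolvable_subgroup [Fact p.Prime] (h : IsPSolvable p G) (K : Subgroup G) :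
    IsPSolvable p K :=
  isPSolvable_of_injective K.subtype K.subtype_injective h

theorem isPSolvable_of_surjective [Fact p.Prime] (f : G →* H) (hf : Function.Surjective f)
    (h : IsPSolvable p G) : IsPSolvable p H := by
  obtain ⟨n, C, h0, hn, hm, hN, hF⟩ := h
  refine ⟨n, fun i => (C i).map f, ?_, ?_, fun i j hij => Subgroup.map_mono (hm hij),
    fun i => (hN i).map f hf, fun i => ?_⟩
  · simp [h0]
  · simp [hn, Subgroup.map_top_of_surjective f hf]
  · refine isPFactor_of_dvd ?_ (hF i)
    rw [relIndex_map_map]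
    have := hN i.castSucc
    have e : C i.succ ⊔ f.ker = C i.succ ⊔ (C i.castSucc ⊔ f.ker) := by
      rw [← sup_assoc, sup_eq_left.2 (hm i.castSucc_lt_succ.le)]
    rw [e, relIndex_sup_right]
    exact Subgroup.relIndex_dvd_of_le_left _ le_sup_left

theorem isPSolvable_quotient [Fact p.Prime] (h : IsPSolvable p G) (N : Subgroup G) [N.Normal] :
    IsPSolvable p (G ⧸ N) :=
  isPSolvable_of_surjective _ (QuotientGroup.mk'_surjective N) h

theorem isPSolvable_of_equiv [Fact p.Prime] (e : G ≃* H) (h : IsPSolvable p G) : IsPSolvable p H :=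
  isPSolvable_of_surjective e.toMonoidHom e.surjective h

theorem isPSolvable_of_isPGroup [Finite G] [Fact p.Prime] (h : IsPGroup p G) : IsPSolvable p G :=
  isPSolvable_iff_upperPSeries.2 ⟨0 + 2, top_le_iff.1 (le_upperPSeries_add_two bot_le
    (Or.inl (by rw [relIndex_bot_left, Subgroup.card_top]; exact IsPGroup.iff_card.1 h)))⟩

theorem isPSolvable_of_coprime [Finite G] [Fact p.Prime] (h : (Nat.card G).Coprime p) :
    IsPSolvable p G :=
  isPSolvable_iff_upperPSeries.2 ⟨0 + 2, top_le_iff.1 (le_upperPSeries_add_two bot_le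
    (Or.inr (by rwa [relIndex_bot_left, Subgroup.card_top])))⟩

theorem isPSolvable_extension [Finite G] [Fact p.Prime] (N : Subgroup G) [N.Normal]
    (h1 : IsPSolvable p N) (h2 : IsPSolvable p (G ⧸ N)) : IsPSolvable p G := by
  obtain ⟨m, hm⟩ := isPSolvable_iff_upperPSeries.1 h1
  have key : ∀ i, ∃ k, (upperPSeries p N i).1.map N.subtype ≤ (upperPSeries p G k).1 := by
    intro i
    induction i with
    | zero => exact ⟨0, by simp [upperPSeries_zero]⟩
    | succ i ih =>
      obtain ⟨k, hk⟩ := ih
      refine ⟨k + 2, le_upperPSeries_add_two hk ?_⟩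
      refine isPFactor_of_dvd ?_ (isPFactor_upperPSeries (p := p) (G := N) i)
      rw [relIndex_map_map_of_injective _ _ N.subtype_injective]
  obtain ⟨k, hk⟩ := key m
  rw [hm, ← MonoidHom.range_eq_map, Subgroup.range_subtype] at hk
  obtain ⟨n, C, h0, hn, -, hN, hF⟩ := h2
  have key2 : ∀ i : Fin (n + 1), ∃ j,
      (C i).comap (QuotientGroup.mk' N) ≤ (upperPSeries p G j).1 := by
    intro i
    induction i using Fin.induction with
    | zero => exact ⟨k, by rw [h0, MonoidHom.comap_bot, QuotientGroup.ker_mk']; exact hk⟩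
    | succ i ih =>
      obtain ⟨j, hj⟩ := ih
      have := hN i.succ
      refine ⟨j + 2, le_upperPSeries_add_two hj ?_⟩
      refine isPFactor_of_dvd ?_ (hF i)
      rw [relIndex_comap, map_comap_eq_self_of_surjective (QuotientGroup.mk'_surjective N)]
  obtain ⟨j, hj⟩ := key2 (Fin.last n)
  rw [hn, Subgroup.comap_top] at hj
  exact isPSolvable_iff_upperPSeries.2 ⟨j, top_le_iff.1 hj⟩

/-- A normal abelian subgroup lies in `O_p(G) ⊔ O_{p'}(G)`. -/
theorem le_pCore_sup_pPrimeCore_of_abelian [Finite G] [hp : Fact p.Prime] (A : Subgroup G)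
    [A.Normal] [IsMulCommutative A] : A ≤ pCore p G ⊔ pPrimeCore p G := by
  intro a ha
  obtain ⟨m, k, hcop, ho⟩ := Nat.exists_eq_pow_mul_and_not_dvd
    (orderOf_pos (⟨a, ha⟩ : A)).ne' p hp.out.ne_one
  set x : A := ⟨a, ha⟩ with hx
  have hn : ∀ y : A, (Subgroup.zpowers y).Normal := fun y => ⟨fun z hz g => by
    rwa [mul_comm' g z, mul_inv_cancel_right]⟩
  have hk : k ≠ 0 := fun h => hcop (h ▸ dvd_zero p)
  have h1 : (x : G) ^ k ∈ pCore p G := by
    have h : IsPGroup p (Subgroup.zpowers (x ^ k)) := IsPGroup.of_card (n := m) (by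
      rw [Nat.card_zpowers, orderOf_pow, ho, Nat.gcd_mul_left_left,
        Nat.mul_div_cancel _ (Nat.pos_of_ne_zero hk)])
    have := (map_pCore_subtype_of_normal (p := p) A).le
      ⟨x ^ k, le_pCore (hn _) h (Subgroup.mem_zpowers _), rfl⟩
    simpa using this.2
  have h2 : (x : G) ^ (p ^ m) ∈ pPrimeCore p G := by
    have h : (Nat.card (Subgroup.zpowers (x ^ (p ^ m)))).Coprime p := by
      rw [Nat.card_zpowers, orderOf_pow, ho, Nat.gcd_mul_right_left,
        Nat.mul_div_cancel_left _ (pow_pos hp.out.pos m)]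
      exact coprime_of_not_dvd_card hcop
    have := (map_pPrimeCore_subtype_of_normal (p := p) A).le
      ⟨x ^ (p ^ m), le_pPrimeCore (hn _) h (Subgroup.mem_zpowers _), rfl⟩
    simpa using this.2
  have hg : Nat.gcd k (p ^ m) = 1 :=
    Nat.Coprime.pow_right m (coprime_of_not_dvd_card hcop)
  have hb := Nat.gcd_eq_gcd_ab k (p ^ m)
  rw [hg] at hb
  have : a = (a ^ k) ^ Nat.gcdA k (p ^ m) * (a ^ (p ^ m)) ^ Nat.gcdB k (p ^ m) := by
    rw [← zpow_natCast a k, ← zpow_natCast a (p ^ m), ← zpow_mul, ← zpow_mul, ← zpow_add, ← hb]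
    simp
  rw [this]
  exact Subgroup.mul_mem_sup (Subgroup.zpow_mem _ h1 _) (Subgroup.zpow_mem _ h2 _)

theorem isPSolvable_of_isSolvable [Finite G] [Fact p.Prime] [hs : Group.IsSolvable G] :
    IsPSolvable p G := by
  obtain ⟨n, hn⟩ := hs.solvable
  have key : ∀ i ≤ n, ∃ k, derivedSeries G (n - i) ≤ (upperPSeries p G k).1 := by
    intro i
    induction i with
    | zero => exact fun _ => ⟨0, by simp [hn]⟩
    | succ i ih =>
      intro hi
      obtain ⟨k, hk⟩ := ih (Nat.le_of_succ_le hi)
      refine ⟨k + 2, ?_⟩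
      have hd : derivedSeries G (n - i) =
          ⁅derivedSeries G (n - (i + 1)), derivedSeries G (n - (i + 1))⁆ := by
        rw [← derivedSeries_succ]; congr 1; omega
      set f := QuotientGroup.mk' (upperPSeries p G k).1
      set A := (derivedSeries G (n - (i + 1))).map f
      have hA : A.Normal := (derivedSeries_normal G _).map f (QuotientGroup.mk'_surjective _)
      have : IsMulCommutative A := by
        rw [← Subgroup.le_centralizer_iff_isMulCommutative, ← Subgroup.commutator_eq_bot_iff_le_centralizer,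
          ← Subgroup.map_commutator, ← hd, Subgroup.map_eq_bot_iff, QuotientGroup.ker_mk']
        exact hk
      refine (Subgroup.map_le_iff_le_comap.1 (le_pCore_sup_pPrimeCore_of_abelian (p := p) A)).trans ?_
      rw [← Subgroup.comap_sup_eq f _ _ (QuotientGroup.mk'_surjective _)]
      exact sup_le (comap_pCore_le_upperPSeries_add_two k)
        (comap_pPrimeCore_le_upperPSeries_add_two k)
  obtain ⟨k, hk⟩ := key n le_rfl
  rw [Nat.sub_self, derivedSeries_zero] at hk
  exact isPSolvable_iff_upperPSeries.2 ⟨k, top_le_iff.1 hk⟩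

theorem exists_pLengthLE_iff [Finite G] [Fact p.Prime] :
    (∃ k, PLengthLE p k G) ↔ IsPSolvable p G := by
  rw [isPSolvable_iff_upperPSeries]
  refine ⟨fun ⟨k, hk⟩ => ⟨_, hk⟩, fun ⟨n, hn⟩ => ⟨n, top_le_iff.1 ?_⟩⟩
  exact hn.symm.le.trans (upperPSeries_mono (by omega))

theorem upperPSeries_eq_bot_of_cores_eq_bot [Finite G] [Fact p.Prime] (h1 : pCore p G = ⊥)
    (h2 : pPrimeCore p G = ⊥) (n : ℕ) : (upperPSeries p G n).1 = ⊥ := by
  induction n with
  | zero => rfl
  | succ n ih =>
    rw [upperPSeries_succ]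
    split_ifs
    · rw [comap_pPrimeCore_quotient (by rw [ih]; simp), h2]
    · rw [comap_pCore_quotient (by rw [ih]; exact IsPGroup.of_bot), h1]

theorem pCore_ne_bot_or_pPrimeCore_ne_bot [Finite G] [Fact p.Prime] [Nontrivial G]
    (h : IsPSolvable p G) : pCore p G ≠ ⊥ ∨ pPrimeCore p G ≠ ⊥ := by
  by_contra hc
  push Not at hc
  obtain ⟨n, hn⟩ := isPSolvable_iff_upperPSeries.1 h
  rw [upperPSeries_eq_bot_of_cores_eq_bot hc.1 hc.2] at hn
  exact bot_ne_top hn

theorem pCore_ne_bot [Finite G] [Fact p.Prime] [Nontrivial G] (h : IsPSolvable p G)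
    (h2 : pPrimeCore p G = ⊥) : pCore p G ≠ ⊥ :=
  (pCore_ne_bot_or_pPrimeCore_ne_bot h).resolve_right (fun h => h h2)

/-! ### Hall–Higman 1.2.3 -/

/-- If a central `p`-subgroup `Z` of `D` has index prime to `p`, then `D` has a normal complement to it. -/
theorem sup_pPrimeCore_eq_top_of_central [Finite G] [Fact p.Prime] (Z : Subgroup G)
    (hZ : Z ≤ Subgroup.center G) (hp : IsPGroup p Z) (hi : Z.index.Coprime p) :
    Z ⊔ pPrimeCore p G = ⊤ := by
  have : Z.Normal := ⟨fun x hx g => by
    rwa [Subgroup.mem_center_iff.1 (hZ hx) g, mul_inv_cancel_right]⟩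
  obtain ⟨m, hm⟩ := IsPGroup.iff_card.1 hp
  obtain ⟨K, hK⟩ := Subgroup.exists_right_complement'_of_coprime (N := Z)
    (by rw [hm]; exact Nat.Coprime.pow_left m hi.symm)
  have hsup : Z ⊔ K = ⊤ := hK.sup_eq_top
  have hKn : K.Normal := by
    rw [← Subgroup.normalizer_eq_top_iff, ← top_le_iff, ← hsup, sup_le_iff]
    refine ⟨?_, Subgroup.le_normalizer⟩
    intro z hz
    rw [Subgroup.mem_normalizer_iff]
    intro k
    have h := Subgroup.mem_center_iff.1 (hZ hz) k
    rw [← h, mul_inv_cancel_right]
  have hKc : (Nat.card K).Coprime p := by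
    have := hK.symm.index_eq_card
    rwa [← this]
  exact top_le_iff.1 (hsup ▸ sup_le_sup le_rfl (le_pPrimeCore hKn hKc))

/-- Hall–Higman Lemma 1.2.3. -/
theorem centralizer_pCore_le [Finite G] [Fact p.Prime] (h : IsPSolvable p G)
    (h0 : pPrimeCore p G = ⊥) :
    Subgroup.centralizer (pCore p G : Set G) ≤ pCore p G := by
  set P := pCore p G with hP
  set C := Subgroup.centralizer (P : Set G) with hC
  by_contra hne
  have hCn : C.Normal := inferInstance
  set Z : Subgroup G := P ⊓ C with hZdef
  set f := QuotientGroup.mk' Z with hf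
  set Q := C.map f with hQ
  have hQn : Q.Normal := hCn.map f (QuotientGroup.mk'_surjective _)
  have hnt : Nontrivial Q := by
    rw [Subgroup.nontrivial_iff_ne_bot, hQ, Ne, Subgroup.map_eq_bot_iff, hf, QuotientGroup.ker_mk']
    exact fun h => hne (h.trans inf_le_left)
  have hZp : IsPGroup p Z := pCore_isPGroup.to_inf_left
  have key : ∀ M : Subgroup (G ⧸ Z), M.Normal → M ≤ Q →
      IsPGroup p M ∨ (Nat.card M).Coprime p → M = ⊥ := by
    intro M hMn hMQ hM
    set D := M.comap f with hD
    have hDC : D ≤ C := by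
      refine (Subgroup.comap_mono hMQ).trans ?_
      rw [hQ, Subgroup.comap_map_eq, hf, QuotientGroup.ker_mk']
      exact sup_le le_rfl inf_le_right
    have hDn : D.Normal := hMn.comap f
    have hDZ : D ≤ Z := by
      rcases hM with hM | hM
      · exact le_inf (le_pCore hDn (isPGroup_comap_mk' hZp hM)) hDC
      · have hZD : Z ≤ D := fun x hx => by
          rw [hD, Subgroup.mem_comap, show f x = 1 from (QuotientGroup.eq_one_iff x).2 hx]
          exact M.one_mem
        have hc : Z.subgroupOf D ≤ Subgroup.center D := by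
          intro z hz
          rw [Subgroup.mem_center_iff]
          intro d
          exact Subtype.ext ((Subgroup.mem_centralizer_iff.1 (hDC d.2)) z
            (Subgroup.mem_subgroupOf.1 hz).1).symm
        have hidx : (Z.subgroupOf D).index.Coprime p := by
          change (Z.relIndex D).Coprime p
          rw [← card_map_mk', hD, map_comap_eq_self_of_surjective (QuotientGroup.mk'_surjective _)]
          exact hM
        have h3 := sup_pPrimeCore_eq_top_of_central _ hc
          (hZp.comap_of_injective _ D.subtype_injective) hidx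
        rw [pPrimeCore_eq_bot_of_normal D h0, sup_bot_eq, Subgroup.subgroupOf_eq_top] at h3
        exact h3
    rw [← map_comap_eq_self_of_surjective (QuotientGroup.mk'_surjective Z) M,
      Subgroup.map_eq_bot_iff, QuotientGroup.ker_mk']
    exact hDZ
  rcases pCore_ne_bot_or_pPrimeCore_ne_bot
      (isPSolvable_subgroup (isPSolvable_quotient h Z) Q) with hne' | hne'
  · apply hne'
    rw [← Subgroup.map_eq_bot_iff_of_injective _ Q.subtype_injective]
    exact key _ inferInstance (Subgroup.map_subtype_le _) (Or.inl (pCore_isPGroup.map _))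
  · apply hne'
    rw [← Subgroup.map_eq_bot_iff_of_injective _ Q.subtype_injective]
    exact key _ inferInstance (Subgroup.map_subtype_le _) (Or.inr
      (Nat.Coprime.coprime_dvd_left (Subgroup.card_map_dvd _ _) pPrimeCore_coprime))

theorem centralizer_le_pPrimePCore [Finite G] [Fact p.Prime] (h : IsPSolvable p G) :
    IsPConstrained p G := by
  intro P c hc
  have hsur : Function.Surjective ((QuotientGroup.mk' (pPrimeCore p G)).subgroupMap
      (pPrimePCore p G)) := MonoidHom.subgroupMap_surjective _ _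
  have hmap : (pPrimePCore p G).map (QuotientGroup.mk' (pPrimeCore p G)) =
      pCore p (G ⧸ pPrimeCore p G) := map_pPrimePCore
  have htop := (P.mapSurjective hsur).is_maximal'
    (IsPGroup.to_subgroup (hmap.symm ▸ pCore_isPGroup) ⊤) le_top
  rw [pPrimePCore, Subgroup.mem_comap]
  refine centralizer_pCore_le (isPSolvable_quotient h _) pPrimeCore_quotient_pPrimeCore ?_
  rw [Subgroup.mem_centralizer_iff]
  intro y hy
  rw [← hmap] at hy
  have hy' : (⟨y, hy⟩ : (pPrimePCore p G).map (QuotientGroup.mk' (pPrimeCore p G))) ∈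
      (P.mapSurjective hsur : Subgroup _) := by
    rw [← htop]; trivial
  rw [Sylow.coe_mapSurjective] at hy'
  obtain ⟨x, hx, hxy⟩ := hy'
  have hxy' : QuotientGroup.mk' (pPrimeCore p G) (x : G) = y := congrArg Subtype.val hxy
  rw [← hxy', ← map_mul, ← map_mul, Subgroup.mem_centralizer_iff.1 hc (x : G) ⟨x, hx, rfl⟩]

end CfsgLib.PCore
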